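import Groth.Agent.H16Derived.ResData.Noeth
import Groth.Agent.H7Lim.ModLocFree
import Groth.Agent.H7Lim.ModHom
import Groth.Agent.H7Lim.DescendAffine
import Groth.Agent.H7Lim.Approx.AbsoluteMain

/-!
# Descending the data to a stage; the resolution property
-/

set_option autoImplicit false
set_option backward.isDefEq.respectTransparency false
set_option backward.isDefEq.respectTransparency.types false
set_option linter.style.haveILetI false
set_option linter.unusedSectionVars false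

noncomputable section

universe u

open CategoryTheory CategoryTheory.Limits AlgebraicGeometry Opposite TopologicalSpace
open Groth.Agent.H06Mod Groth.Agent.H7Lim
open Groth.Agent.H16Derived.KFlat.Stalk (structurePullbackIso)

namespace Groth.Agent.H16Derived.ResData

theorem loc_comp_iso {X : Scheme.{u}} {E : X.Modules} (κ : E ⟶ Coh.structureModule X)
    (b : Coh.structureModule X ⟶ Coh.structureModule X) [IsIso b] : loc (κ ≫ b) = loc κ := by
  ext x
  simp only [SetLike.mem_coe, ← surjective_iff_mem_loc]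
  have e : ⇑(stalkLin (κ ≫ b) x) = stalkLin b x ∘ stalkLin κ x := funext (stalkLin_comp κ b x)
  have hinv : ∀ a, stalkLin (inv b) x (stalkLin b x a) = a := fun a => by
    rw [← stalkLin_comp, IsIso.hom_inv_id]
    obtain ⟨W, hW, r, rfl⟩ := TopCat.Presheaf.exists_germ_eq (Coh.structureModule X).presheaf a
    rw [stalkLin_germ]
    rfl
  have hinj : Function.Injective (stalkLin b x) := Function.LeftInverse.injective hinv
  rw [e]
  exact ⟨fun h => Function.Surjective.of_comp_left h hinj, fun h => (surjective_stalk_of_epi b x).comp h⟩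

theorem isCompact_loc {X : Scheme.{u}} [CompactSpace X] {E : X.Modules} (hE : Coh.IsQCoh E)
    (hEt : CohB1.IsFT E) (κ : E ⟶ Coh.structureModule X) : IsCompact (loc κ : Set X) := by
  classical
  obtain ⟨T, hT, hTeq⟩ := isCompact_iff_finite_and_eq_biUnion_affineOpens.1
    (show IsCompact ((⊤ : X.Opens) : Set X) from isCompact_univ)
  haveI : E.IsQuasicoherent := hE
  choose S hS using fun W : X.affineOpens => (H10Coh.finite_sections E hEt W.2).fg_top
  have e : (loc κ : Set X) = ⋃ W ∈ T, ⋃ s ∈ S W, (X.basicOpen (show Γ(X, W.1) from κ.app W.1 s) : Set X) := by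
    ext x
    simp only [Set.mem_iUnion, SetLike.mem_coe]
    refine ⟨fun hx => ?_, fun ⟨W, _, s, _, hx⟩ => mem_loc_of_basicOpen κ s hx⟩
    have hxT : x ∈ ⨆ W ∈ T, (W : X.Opens) := hTeq.le (show x ∈ (⊤ : X.Opens) from trivial)
    rw [iSup_subtype'] at hxT
    obtain ⟨⟨W, hW⟩, hxW⟩ := Opens.mem_iSup.1 hxT
    refine ⟨W, hW, ?_⟩
    by_contra hn
    push Not at hn
    obtain ⟨v, hv⟩ := (surjective_iff_mem_loc κ).2 hx
      ((Coh.structureModule X).presheaf.germ W.1 x hxW (H11Ample.one W.1))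
    obtain ⟨t, s, ht, hts⟩ := H17.AssPts.exists_smul_germ_eq E hE W.2 hxW v
    have h0 : (Coh.structureModule X).presheaf.germ W.1 x hxW
        ((show Γ(Coh.structureModule X, W.1) from κ.app W.1 s) - t • H11Ample.one W.1) = 0 := by
      rw [map_sub, sub_eq_zero, ← stalkLin_germ κ, ← hts, map_smul, hv, ← germ_smul]
    obtain ⟨c, hc, hc0⟩ := H17.AssPts.exists_smul_eq_zero_of_germ (Coh.structureModule X)
      (H10Coh.isQuasicoherent_unit) W.2 hxW h0
    let P := (W.2.primeIdealOf ⟨x, hxW⟩).asIdeal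
    have hsP : ∀ z : Γ(E, W.1), (show Γ(X, W.1) from κ.app W.1 z) ∈ P := by
      intro z
      have hz : z ∈ Submodule.span Γ(X, W.1) (S W : Set Γ(E, W.1)) := (hS W) ▸ Submodule.mem_top
      induction hz using Submodule.span_induction with
      | mem z hz => exact (H17.AssPts.mem_primeIdealOf W.2 hxW _).2 (hn z hz)
      | zero => rw [map_zero]; exact P.zero_mem
      | add a a' _ _ ha ha' => rw [map_add]; exact P.add_mem ha ha'
      | smul r a _ ha => rw [Scheme.Modules.Hom.app_smul]; exact P.mul_mem_left _ ha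
    have hct : c * t ∈ P := by
      have h1 : c * (show Γ(X, W.1) from κ.app W.1 s) = c * (t * 1) :=
        sub_eq_zero.1 ((smul_sub c _ _).symm.trans hc0)
      rw [mul_one] at h1
      exact h1 ▸ P.mul_mem_left _ (hsP s)
    rcases (W.2.primeIdealOf ⟨x, hxW⟩).isPrime.mem_or_mem hct with h1 | h1
    · exact (H17.AssPts.mem_primeIdealOf W.2 hxW c).1 h1 hc
    · exact (H17.AssPts.mem_primeIdealOf W.2 hxW t).1 h1 ht
  rw [e]
  refine hT.isCompact_biUnion fun W _ => (S W).finite_toSet.isCompact_biUnion fun s _ => ?_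
  exact (W.2.basicOpen _).isCompact

/-- The resolution property gives data. -/
theorem hasData_of_hasResolutionProperty (X : Scheme.{u}) [CompactSpace X] [QuasiSeparatedSpace X]
    (hX : PerfAux.HasResolutionProperty X) : HasData X := by
  obtain ⟨X₀, π, hπ, hc, hZ⟩ := H7Lim.Approx.exists_affineHom_finiteType X
  haveI := H7Lim.Approx.isLocallyNoetherian_of_toZ X₀
  haveI : IsNoetherian X₀ := ⟨⟩
  obtain ⟨r, U, hU, -, hcov⟩ := H10Coh.exists_finite_affine_cover (W := (⊤ : X₀.Opens)) isCompact_univ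
  let I : Fin r → X₀.IdealSheafData := fun j =>
    Scheme.IdealSheafData.vanishingIdeal ⟨(U j : Set X₀)ᶜ, (U j).isOpen.isClosed_compl⟩
  have hI : ∀ j, Coh.IsCoh (ClSub.idealMod (I j)) := fun j => by
    have hm : Mono (ClSub.idealModι (I j)) := by unfold ClSub.idealModι; infer_instance
    exact @H10Coh.isCoh_of_mono _ _ _ _ (ClSub.idealModι (I j)) hm
      (H17.OmegaLocal.isQuasicoherent_idealMod (I j)) (H10Coh.isCoh_structureModule' X₀)
  have hft : ∀ j, CohB1.IsFT (ClSub.idealMod (I j)) := fun j => H29Fitt.isFT_of_isFP _ (H10Coh.isFP_of_isCoh _ (hI j))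
  have hlocI : ∀ j, loc (ClSub.idealModι (I j)) = U j := fun j => Opens.ext (by
    rw [loc_idealModι]
    simp [I, Scheme.IdealSheafData.coe_support_vanishingIdeal])
  choose E p hE hp using fun j => hX ((Scheme.Modules.pullback π).obj (ClSub.idealMod (I j)))
    (H29Fitt.isQCoh_pullback π _ (hI j).1) (H29Fitt.isFT_pullback π _ (hI j).1 (hft j))
  refine ⟨r, E, fun j => p j ≫ pull π (ClSub.idealModι (I j)), hE, fun j => ?_, fun x => ?_⟩
  · haveI := hp j
    rw [loc_epi_comp, loc_pull π _ (hI j).1]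
    rw [hlocI]
    exact (hU j).preimage π
  · obtain ⟨j, hj⟩ := Opens.mem_iSup.1 (hcov.ge (show π x ∈ (⊤ : X₀.Opens) from trivial))
    haveI := hp j
    refine ⟨j, ?_⟩
    rw [loc_epi_comp, loc_pull π _ (hI j).1]
    rw [hlocI]
    exact hj

variable {I : Type u} [SmallCategory I] [IsCofiltered I] {D : I ⥤ Scheme.{u}} {c : Cone D} (hc : IsLimit c)
  [∀ (i j : I) (f : i ⟶ j), IsAffineHom (D.map f)] [∀ i, CompactSpace (D.obj i)]
  [∀ i, QuasiSeparatedSpace (D.obj i)]

include hc in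
theorem exists_stage_map {E : c.pt.Modules} (hE : FlatMod.IsFinLocFree E) (κ : E ⟶ Coh.structureModule c.pt)
    (i₀ : I) :
    ∃ (k : I) (_ : k ⟶ i₀) (F : (D.obj k).Modules) (μ : F ⟶ Coh.structureModule (D.obj k)),
      FlatMod.IsFinLocFree F ∧ c.π.app k ⁻¹ᵁ loc μ = loc κ := by
  have hEp := H8Props.FinLocFree.isFP_of_isFinLocFree E hE
  have hEq := H29Fitt.isQCoh_of_isFP E hEp
  obtain ⟨P, q, hP, hq⟩ := ModHom.exists_pullback_epi hc (i₀ := i₀) hEq (H29Fitt.isFT_of_isFP E hEp)
  haveI := hq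
  obtain ⟨j₁, φ₁, G₁, -, -, e, hG₁, -, -⟩ := ModHom.exists_quotient hc hP hEq hEp q
  obtain ⟨j₂, φ₂, hG₂⟩ := (ModLocFree.isFinLocFree_iff hc hG₁).1 (ModLocFree.isFinLocFree_of_iso e.symm hE)
  let G₂ := (Scheme.Modules.pullback (D.map φ₂)).obj G₁
  let e₂ : (Scheme.Modules.pullback (c.π.app j₂)).obj G₂ ≅ E := (ModStage.πIso φ₂).app G₁ ≪≫ e
  obtain ⟨j₃, ψ, hj, hhj⟩ := ModHom.exists_hom hc (F := G₂) (G := Coh.structureModule (D.obj j₂))
    (H06EGA9.isFP_pullback _ hG₁) (H10Coh.isQuasicoherent_unit)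
    (e₂.hom ≫ κ ≫ (structurePullbackIso (c.π.app j₂)).inv)
  let μ := hj ≫ (structurePullbackIso (D.map ψ)).hom
  refine ⟨j₃, ψ ≫ φ₂ ≫ φ₁, _, μ, KFlat.Stalk.isFinLocFree_pullback _ hG₂, ?_⟩
  rw [← loc_pull (c.π.app j₃) μ (H29Fitt.isQCoh_pullback _ _ (H29Fitt.isQCoh_of_isFP _ (H06EGA9.isFP_pullback _ hG₁)))]
  let A := (ModStage.πIso (c := c) ψ).app G₂
  let B := (ModStage.πIso (c := c) ψ).app (Coh.structureModule (D.obj j₂))
  let b : Coh.structureModule c.pt ⟶ Coh.structureModule c.pt :=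
    (structurePullbackIso (c.π.app j₂)).inv ≫ B.inv ≫
      (Scheme.Modules.pullback (c.π.app j₃)).map (structurePullbackIso (D.map ψ)).hom ≫
        (structurePullbackIso (c.π.app j₃)).hom
  have h : pull (c.π.app j₃) μ = (A.hom ≫ e₂.hom) ≫ κ ≫ b := by
    have h1 : (Scheme.Modules.pullback (c.π.app j₃)).map hj =
        A.hom ≫ (e₂.hom ≫ κ ≫ (structurePullbackIso (c.π.app j₂)).inv) ≫ B.inv := by
      rw [← hhj]
      show _ = A.hom ≫ (A.inv ≫ (Scheme.Modules.pullback (c.π.app j₃)).map hj ≫ B.hom) ≫ B.inv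
      simp
    rw [pull, Functor.map_comp, h1]
    simp only [b, Category.assoc]
  rw [h, loc_epi_comp, loc_comp_iso]

include hc in
/-- Data descend to a stage. -/
theorem exists_stage_hasData (h : HasData c.pt) : ∃ i, HasData (D.obj i) := by
  classical
  obtain ⟨m, E, κ, hE, haff, hcov⟩ := h
  obtain ⟨i₀⟩ := IsCofiltered.nonempty (C := I)
  choose k hk F μ hF hμ using fun j => exists_stage_map hc (hE j) (κ j) i₀
  obtain ⟨l, hl⟩ := IsCofiltered.inf_objs_exists (Finset.univ.image k)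
  let φ : ∀ j, l ⟶ k j := fun j => (hl (Finset.mem_image_of_mem k (Finset.mem_univ j))).some
  let V : Fin m → (D.obj l).Opens := fun j => D.map (φ j) ⁻¹ᵁ loc (μ j)
  have hV : ∀ j, c.π.app l ⁻¹ᵁ V j = loc (κ j) := fun j => by
    rw [← hμ j, ← c.w (φ j), Scheme.Hom.comp_preimage]
  have hVc : ∀ j, IsCompact (V j : Set (D.obj l)) := fun j =>
    (D.map (φ j)).isCompact_preimage (isCompact_loc (H29Fitt.isQCoh_of_isFP _ (H8Props.FinLocFree.isFP_of_isFinLocFree _ (hF j)))
      (H29Fitt.isFT_of_isFP _ (H8Props.FinLocFree.isFP_of_isFinLocFree _ (hF j))) (μ j))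
  -- affine
  have hA : ∀ j, ∃ (l' : I) (t : l' ⟶ l), IsAffineOpen (D.map t ⁻¹ᵁ V j) := fun j => by
    haveI : ∀ n : Over l, CompactSpace ((opensDiagram D l (V j)).obj n) := fun n =>
      isCompact_iff_compactSpace.1 ((D.map n.hom).isCompact_preimage (hVc j))
    haveI : ∀ n : Over l, QuasiSeparatedSpace ((opensDiagram D l (V j)).obj n) := fun n =>
      quasiSeparatedSpace_of_quasiSeparated ((D.map n.hom ⁻¹ᵁ V j).ι)
    haveI : IsAffine (opensCone D c l (V j)).pt :=
      (show IsAffineOpen (c.π.app l ⁻¹ᵁ V j) by rw [hV j]; exact haff j)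
    obtain ⟨n, hn⟩ := Scheme.exists_isAffine_of_isLimit (opensDiagram D l (V j)) _ (isLimitOpensCone D c hc l (V j))
    exact ⟨n.left, n.hom, hn⟩
  choose la ta hta using hA
  -- cover
  let Z : Set (D.obj l) := Set.univ ∩ (⋃ j, (V j : Set (D.obj l)))ᶜ
  have hZ : QCImage Z := (qcImage_of_isOpen_isCompact isOpen_univ isCompact_univ).inter_isClosed
    (isOpen_iUnion fun j => (V j).isOpen).isClosed_compl
  have hZe : c.π.app l ⁻¹' Z = ∅ := Set.eq_empty_iff_forall_notMem.2 fun y hy => by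
    obtain ⟨j, hj⟩ := hcov y
    rw [← hV j] at hj
    exact hy.2 (Set.mem_iUnion.2 ⟨j, hj⟩)
  obtain ⟨lz, tz, htz⟩ := hZ.exists_preimage_eq_empty hc hZe
  obtain ⟨L, t, hat, htt⟩ := IsCofiltered.wideCospan (fun o : Option (Fin m) => o.elim (⟨lz, tz⟩ : Σ n, n ⟶ l) (fun j => ⟨la j, ta j⟩) |>.2)
  haveI : CompactSpace (D.obj L) := inferInstance
  refine ⟨L, m, fun j => (Scheme.Modules.pullback (D.map (t ≫ φ j))).obj (F j),
    fun j => pull (D.map (t ≫ φ j)) (μ j), fun j => KFlat.Stalk.isFinLocFree_pullback _ (hF j), fun j => ?_, fun x => ?_⟩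
  · rw [loc_pull _ _ (H29Fitt.isQCoh_of_isFP _ (H8Props.FinLocFree.isFP_of_isFinLocFree _ (hF j))), D.map_comp,
      Scheme.Hom.comp_preimage, ← htt (some j), D.map_comp, Scheme.Hom.comp_preimage]
    exact (hta j).preimage (D.map (hat (some j)))
  · have hx : D.map t x ∈ ⋃ j, (V j : Set (D.obj l)) := by
      by_contra hx
      refine Set.eq_empty_iff_forall_notMem.1 htz (D.map (hat none) x) ⟨trivial, ?_⟩
      rw [← htt none, D.map_comp] at hx
      exact hx
    obtain ⟨j, hj⟩ := Set.mem_iUnion.1 hx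
    refine ⟨j, ?_⟩
    rw [loc_pull _ _ (H29Fitt.isQCoh_of_isFP _ (H8Props.FinLocFree.isFP_of_isFinLocFree _ (hF j))), D.map_comp,
      Scheme.Hom.comp_preimage]
    exact hj

/-- Data give the resolution property. -/
theorem hasResolutionProperty_of_hasData (X : Scheme.{u}) [CompactSpace X] [QuasiSeparatedSpace X]
    (h : HasData X) : PerfAux.HasResolutionProperty X := by
  obtain ⟨Y, f, hf, hY, hYt⟩ := H7Lim.Approx.exists_affineHom_finiteType X
  haveI := H7Lim.Approx.quasiSeparatedSpace_of_toZ Y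
  haveI := H7Lim.Approx.isLocallyNoetherian_of_toZ Y
  obtain ⟨hc⟩ := H7Lim.Approx.nonempty_isLimit_sysCone f
  haveI : ∀ i, CompactSpace ((H7Lim.Approx.sys f).obj i) := fun i => inferInstanceAs (CompactSpace i.unop.spec)
  haveI : ∀ i, QuasiSeparatedSpace ((H7Lim.Approx.sys f).obj i) := fun i =>
    inferInstanceAs (QuasiSeparatedSpace i.unop.spec)
  haveI : ∀ (i j : (H7Lim.Approx.FGSub f)ᵒᵖ) (a : i ⟶ j), IsAffineHom ((H7Lim.Approx.sys f).map a) :=
    fun i j a => inferInstanceAs (IsAffineHom ((H7Lim.Approx.system f).map a).left)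
  obtain ⟨i, hi⟩ := exists_stage_hasData hc h
  haveI : IsLocallyNoetherian ((H7Lim.Approx.sys f).obj i) := LocallyOfFiniteType.isLocallyNoetherian i.unop.proj
  haveI : IsNoetherian ((H7Lim.Approx.sys f).obj i) := ⟨⟩
  haveI : IsAffineHom ((H7Lim.Approx.sysCone f).π.app i) := isAffineHom_π_app _ _ hc i
  exact LeadResProp.ascends ((H7Lim.Approx.sysCone f).π.app i) (hasResolutionProperty_noetherian hi)
    (LeadResProp.isRelAmple_structure _)

end Groth.Agent.H16Derived.ResData
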