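import Groth.Agent.H14ResProp.PowGen
import Groth.Agent.H8Props.RelFP.PullSections
import Groth.Agent.H8Props.FunDescent.PullHom
import Groth.Agent.H10Coh.Kunneth.Geometry
import Groth.Agent.H17.PullSect
import Groth.Agent.H17.OmegaLocal
import Groth.Agent.H29Blow.IdealMod
import Groth.Agent.LeadAff.Chevalley

/-!
# The locus where a map to the structure sheaf is surjective
-/

set_option autoImplicit false
set_option backward.isDefEq.respectTransparency false
set_option backward.isDefEq.respectTransparency.types false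
set_option linter.style.haveILetI false

noncomputable section

universe u

open CategoryTheory CategoryTheory.Limits AlgebraicGeometry Opposite TopologicalSpace
open Groth.Agent.H11Ample Groth.Agent.H06Mod Groth.Agent.H17.PullSect
open Groth.Agent.H16Derived.KFlat.Stalk (structurePullbackIso)

namespace Groth.Agent.H16Derived.ResData

variable {X : Scheme.{u}} {E : X.Modules}

/-- The open set where `κ` locally hits `1`. -/
def loc (κ : E ⟶ Coh.structureModule X) : X.Opens :=
  ⨆ p : {p : Σ W : X.Opens, Γ(E, W) // κ.app p.1 p.2 = one p.1}, p.1.1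

variable (κ : E ⟶ Coh.structureModule X)

theorem mem_loc {x : X} : x ∈ loc κ ↔ ∃ (W : X.Opens) (b : Γ(E, W)), x ∈ W ∧ κ.app W b = one W := by
  rw [loc, Opens.mem_iSup]
  exact ⟨fun ⟨⟨⟨W, b⟩, h⟩, hx⟩ => ⟨W, b, hx, h⟩, fun ⟨W, b, hx, h⟩ => ⟨⟨⟨W, b⟩, h⟩, hx⟩⟩

theorem app_res {W V : X.Opens} (h : V ≤ W) (b : Γ(E, W)) :
    κ.app V (E.presheaf.map (homOfLE h).op b) =
      (Coh.structureModule X).presheaf.map (homOfLE h).op (κ.app W b) :=
  congr($((Scheme.Modules.Hom.mapPresheaf κ).naturality (homOfLE h).op) b)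

theorem app_res_eq_one {W V : X.Opens} (h : V ≤ W) {b : Γ(E, W)} (hb : κ.app W b = one W) :
    κ.app V (E.presheaf.map (homOfLE h).op b) = one V := by
  rw [app_res κ h b, hb]
  exact map_one (X.presheaf.map (homOfLE h).op).hom

theorem mem_loc_of_basicOpen {W : X.Opens} (b : Γ(E, W)) {x : X}
    (hx : x ∈ X.basicOpen (show Γ(X, W) from κ.app W b)) : x ∈ loc κ := by
  let a : Γ(X, W) := κ.app W b
  have hu := RingedSpace.isUnit_res_basicOpen X.toLocallyRingedSpace.toRingedSpace a
  obtain ⟨c, hc⟩ := hu.exists_left_inv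
  refine (mem_loc κ).2 ⟨X.basicOpen a, (show Γ(X, X.basicOpen a) from c) •
    E.presheaf.map (homOfLE (X.basicOpen_le a)).op b, hx, ?_⟩
  rw [Scheme.Modules.Hom.app_smul, app_res κ (X.basicOpen_le a) b]
  exact hc

theorem surjective_iff_mem_loc {x : X} : Function.Surjective (stalkLin κ x) ↔ x ∈ loc κ := by
  rw [mem_loc]
  constructor
  · intro h
    obtain ⟨v, hv⟩ := h ((Coh.structureModule X).presheaf.germ ⊤ x trivial (one ⊤))
    obtain ⟨W, hW, b, rfl⟩ := TopCat.Presheaf.exists_germ_eq E.presheaf v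
    rw [stalkLin_germ] at hv
    obtain ⟨V, hxV, iW, iT, e⟩ := TopCat.Presheaf.germ_eq (Coh.structureModule X).presheaf x hW (Opens.mem_top x) _ _ hv
    refine ⟨V, E.presheaf.map iW.op b, hxV, ?_⟩
    refine (app_res κ iW.le b).trans (e.trans ?_)
    exact map_one (X.presheaf.map iT.op).hom
  · rintro ⟨W, b, hx, hb⟩ v
    obtain ⟨W', hW', r, rfl⟩ := TopCat.Presheaf.exists_germ_eq (Coh.structureModule X).presheaf v
    have h1 : W ⊓ W' ≤ W := inf_le_left
    have h2 : W ⊓ W' ≤ W' := inf_le_right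
    refine ⟨E.presheaf.germ (W ⊓ W') x ⟨hx, hW'⟩
      (X.presheaf.map (homOfLE h2).op r • E.presheaf.map (homOfLE h1).op b), ?_⟩
    rw [stalkLin_germ, Scheme.Modules.Hom.app_smul, app_res_eq_one κ h1 hb]
    refine (congrArg _ (mul_one _)).trans ?_
    exact TopCat.Presheaf.germ_res_apply (Coh.structureModule X).presheaf (homOfLE h2) x ⟨hx, hW'⟩ r

theorem stalkLin_comp {M N P : X.Modules} (φ : M ⟶ N) (ψ : N ⟶ P) (x : X) (a : M.presheaf.stalk x) :
    stalkLin (φ ≫ ψ) x a = stalkLin ψ x (stalkLin φ x a) := by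
  obtain ⟨W, hW, b, rfl⟩ := TopCat.Presheaf.exists_germ_eq M.presheaf a
  rw [stalkLin_germ, stalkLin_germ, stalkLin_germ]
  rfl

theorem loc_epi_comp {E' : X.Modules} (p : E' ⟶ E) [Epi p] : loc (p ≫ κ) = loc κ := by
  ext x
  simp only [SetLike.mem_coe, ← surjective_iff_mem_loc]
  have e : ⇑(stalkLin (p ≫ κ) x) = stalkLin κ x ∘ stalkLin p x := funext (stalkLin_comp p κ x)
  rw [e]
  exact Function.Surjective.of_comp_iff _ (surjective_stalk_of_epi p x)

theorem loc_idealModι (I : X.IdealSheafData) : (loc (ClSub.idealModι I) : Set X) = (I.support : Set X)ᶜ := by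
  ext x
  obtain ⟨V, hV, hxV, -⟩ := exists_isAffineOpen_mem_and_subset (x := x) (U := (⊤ : X.Opens)) trivial
  have key : x ∈ (I.support : Set X) ↔ ∀ a ∈ I.ideal ⟨V, hV⟩, x ∉ X.basicOpen a := by
    have h := congrArg (x ∈ ·) (I.coe_support_inter ⟨V, hV⟩)
    simp only [Set.mem_inter_iff, SetLike.mem_coe, hxV, and_true, eq_iff_iff, Scheme.mem_zeroLocus_iff] at h
    exact h
  simp only [SetLike.mem_coe, Set.mem_compl_iff]
  constructor
  · intro h hs
    obtain ⟨W, b, hxW, hb⟩ := (mem_loc _).1 h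
    obtain ⟨V', hV', hxV', hle⟩ := exists_isAffineOpen_mem_and_subset (x := x) (U := W) hxW
    have h1 : (1 : Γ(X, V')) ∈ I.ideal ⟨V', hV'⟩ :=
      (H29Blow.mem_ideal_iff_exists_idealSect I hV' 1).2
        ⟨(ClSub.idealMod I).presheaf.map (homOfLE hle).op b, app_res_eq_one _ hle hb⟩
    have h' := congrArg (x ∈ ·) (I.coe_support_inter ⟨V', hV'⟩)
    simp only [Set.mem_inter_iff, SetLike.mem_coe, hxV', and_true, eq_iff_iff, Scheme.mem_zeroLocus_iff] at h'
    exact h'.1 hs 1 h1 (by rw [X.basicOpen_of_isUnit isUnit_one]; exact hxV')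
  · intro h
    rw [SetLike.mem_coe] at key
    rw [key] at h
    push Not at h
    obtain ⟨a, ha, hxa⟩ := h
    obtain ⟨m, hm⟩ := (H29Blow.mem_ideal_iff_exists_idealSect I hV a).1 ha
    refine mem_loc_of_basicOpen _ m ?_
    rw [show (show Γ(X, V) from (ClSub.idealModι I).app V m) = a from hm]
    exact hxa

/-- Over an affine open inside the locus, `1` is hit. -/
theorem exists_one (hE : Coh.IsQCoh E) {W : X.Opens} (hW : IsAffineOpen W) (h : W ≤ loc κ) :
    ∃ e : Γ(E, W), κ.app W e = one W := by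
  let J : Ideal Γ(X, W) := LinearMap.range (H8Props.FunDescent.secLin κ W)
  suffices hJ : (1 : Γ(X, W)) ∈ J by
    obtain ⟨e, he⟩ := hJ
    exact ⟨e, he⟩
  rw [← Ideal.eq_top_iff_one]
  by_contra hJ
  obtain ⟨P, hP, hle⟩ := Ideal.exists_le_maximal J hJ
  obtain ⟨⟨x, hxW⟩, hx⟩ := H29Blow.exists_primeIdealOf_eq hW ⟨P, hP.isPrime⟩
  obtain ⟨v, hv⟩ := (surjective_iff_mem_loc κ).2 (h hxW)
    ((Coh.structureModule X).presheaf.germ W x hxW (one W))
  obtain ⟨t, s, ht, hts⟩ := H17.AssPts.exists_smul_germ_eq E hE hW hxW v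
  have h0 : (Coh.structureModule X).presheaf.germ W x hxW
      ((show Γ(Coh.structureModule X, W) from κ.app W s) - t • one W) = 0 := by
    rw [map_sub, sub_eq_zero, ← stalkLin_germ κ, ← hts, map_smul, hv, ← germ_smul]
  obtain ⟨c, hc, hc0⟩ := H17.AssPts.exists_smul_eq_zero_of_germ (Coh.structureModule X)
    (H10Coh.isQuasicoherent_unit) hW hxW h0
  have hmem : c * t ∈ J := by
    refine ⟨c • s, ?_⟩
    show κ.app W (c • s) = c * t
    rw [Scheme.Modules.Hom.app_smul]
    refine (sub_eq_zero.1 ((smul_sub c _ _).symm.trans hc0)).trans ?_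
    show c * (t * 1) = c * t
    rw [mul_one]
  have hPx : P = (hW.primeIdealOf ⟨x, hxW⟩).asIdeal := congrArg PrimeSpectrum.asIdeal hx.symm
  have := hle hmem
  rw [hPx] at this
  rcases (hW.primeIdealOf ⟨x, hxW⟩).isPrime.mem_or_mem this with h1 | h1
  · exact (H17.AssPts.mem_primeIdealOf hW hxW c).1 h1 hc
  · exact (H17.AssPts.mem_primeIdealOf hW hxW t).1 h1 ht

section Pullback

variable {Y : Scheme.{u}} (f : X ⟶ Y) {M : Y.Modules} (μ : M ⟶ Coh.structureModule Y)

/-- The pulled back map to the structure sheaf. -/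
def pull : (Scheme.Modules.pullback f).obj M ⟶ Coh.structureModule X :=
  (Scheme.Modules.pullback f).map μ ≫ (structurePullbackIso f).hom

theorem pull_pullSect (U : Y.Opens) (m : Γ(M, U)) :
    (pull f μ).app (f ⁻¹ᵁ U) (OmegaSh.pullSect f M U m) = f.app U (show Γ(Y, U) from μ.app U m) := by
  rw [← H10Coh.Kunneth.spi_pullSect f U, pullSect_natural]
  rfl

theorem loc_pull (hM : Coh.IsQCoh M) : loc (pull f μ) = f ⁻¹ᵁ loc μ := by
  refine le_antisymm (fun x hx => ?_) (fun x hx => ?_)
  · obtain ⟨W, b, hxW, hb⟩ := (mem_loc _).1 hx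
    obtain ⟨U, hU, hxU, -⟩ := exists_isAffineOpen_mem_and_subset (x := f x) (U := (⊤ : Y.Opens)) trivial
    obtain ⟨V, hV, hxV, hle⟩ :=
      exists_isAffineOpen_mem_and_subset (x := x) (U := W ⊓ f ⁻¹ᵁ U) ⟨hxW, hxU⟩
    have hVW : V ≤ W := fun y hy => (hle hy).1
    have hVU : V ≤ f ⁻¹ᵁ U := fun y hy => (hle hy).2
    by_contra hn
    letI := (f.appLE U V hVU).hom.toAlgebra
    letI := Module.compHom Γ((Scheme.Modules.pullback f).obj M, V) (f.appLE U V hVU).hom
    haveI : IsScalarTower Γ(Y, U) Γ(X, V) Γ((Scheme.Modules.pullback f).obj M, V) :=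
      .of_algebraMap_smul fun _ _ => rfl
    have hbc := H8Props.PullSections.isBaseChange_pullLin f M hVU hM hU hV
    have key : ∀ z : Γ((Scheme.Modules.pullback f).obj M, V),
        X.presheaf.germ V x hxV (show Γ(X, V) from (pull f μ).app V z) ∈
          IsLocalRing.maximalIdeal (X.presheaf.stalk x) := by
      intro z
      induction z using hbc.inductionOn with
      | zero =>
        rw [map_zero]
        exact (map_zero (X.presheaf.germ V x hxV).hom).symm ▸ zero_mem _
      | add a a' ha ha' =>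
        rw [map_add]
        exact (map_add (X.presheaf.germ V x hxV).hom _ _).symm ▸ add_mem ha ha'
      | smul r a ha =>
        rw [Scheme.Modules.Hom.app_smul]
        exact (map_mul (X.presheaf.germ V x hxV).hom _ _).symm ▸ Ideal.mul_mem_left _ _ ha
      | tmul m =>
        have e1 : (pull f μ).app V (H8Props.PullSections.pullLin f M hVU m) =
            (Coh.structureModule X).presheaf.map (homOfLE hVU).op
              (show Γ(Coh.structureModule X, f ⁻¹ᵁ U) from f.app U (show Γ(Y, U) from μ.app U m)) := by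
          rw [← pull_pullSect]
          exact app_res (pull f μ) hVU _
        rw [e1]
        change X.presheaf.germ V x hxV (X.presheaf.map (homOfLE hVU).op _) ∈ _
        rw [X.presheaf.germ_res_apply, ← Scheme.Hom.germ_stalkMap_apply]
        intro hu
        exact hn (mem_loc_of_basicOpen μ m ((Y.mem_basicOpen _ _ hxU).2 (isUnit_of_map_unit _ _ hu)))
    have := key (((Scheme.Modules.pullback f).obj M).presheaf.map (homOfLE hVW).op b)
    rw [app_res_eq_one (pull f μ) hVW hb] at this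
    exact this ((map_one (X.presheaf.germ V x hxV).hom).symm ▸ isUnit_one)
  · obtain ⟨W, b, hxW, hb⟩ := (mem_loc μ).1 hx
    refine (mem_loc _).2 ⟨f ⁻¹ᵁ W, OmegaSh.pullSect f M W b, hxW, ?_⟩
    rw [pull_pullSect, hb]
    exact map_one (f.app W).hom

end Pullback

end Groth.Agent.H16Derived.ResData
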