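import Groth.Agent.H16Derived.ResData.Loc
import Groth.Agent.H16Derived.KFlat.LocFreeOps
import Groth.Agent.LeadResProp.Rel

/-!
# Maps to the structure sheaf with affine loci give the resolution property: noetherian case
-/

set_option autoImplicit false
set_option backward.isDefEq.respectTransparency false
set_option backward.isDefEq.respectTransparency.types false
set_option linter.style.haveILetI false

noncomputable section

universe u

open CategoryTheory CategoryTheory.Limits AlgebraicGeometry Opposite TopologicalSpace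
open Groth.Agent.H11Ample Groth.Agent.H11Tilde

namespace Groth.Agent.H16Derived.ResData

variable {X : Scheme.{u}}

/-- Finitely many maps from vector bundles to the structure sheaf with affine loci covering `X`. -/
def HasData (X : Scheme.{u}) : Prop :=
  ∃ (m : ℕ) (E : Fin m → X.Modules) (κ : ∀ j, E j ⟶ Coh.structureModule X),
    (∀ j, FlatMod.IsFinLocFree (E j)) ∧ (∀ j, IsAffineOpen (loc (κ j))) ∧ ∀ x, ∃ j, x ∈ loc (κ j)

theorem finLocFree_tensorPow {L : X.Modules} (hL : FlatMod.IsFinLocFree L) :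
    ∀ n : ℕ, FlatMod.IsFinLocFree (CohB1.tensorPow L n)
  | 0 => fun x => ⟨⊤, 1, trivial, ⟨(Scheme.Modules.restrictFunctorIsoPullback (⊤ : X.Opens).ι).app _ ≪≫
      KFlat.Stalk.structurePullbackIso _ ≪≫ (coproductUniqueIso fun _ : Fin 1 =>
        Coh.structureModule (↑(⊤ : X.Opens) : Scheme.{u})).symm⟩⟩
  | n + 1 => H22Alg.KModel.finLocFree_tensorMod (finLocFree_tensorPow hL n) hL

/-- The vanishing ideal of the complement of the locus. -/
def locIdeal {E : X.Modules} (κ : E ⟶ Coh.structureModule X) : X.IdealSheafData :=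
  Scheme.IdealSheafData.vanishingIdeal ⟨(loc κ : Set X)ᶜ, (loc κ).isOpen.isClosed_compl⟩

theorem mem_locIdeal {E : X.Modules} (κ : E ⟶ Coh.structureModule X) {V : X.Opens} (hV : IsAffineOpen V)
    (b : Γ(E, V)) : (show Γ(X, V) from κ.app V b) ∈ (locIdeal κ).ideal ⟨V, hV⟩ := by
  rw [locIdeal, Scheme.IdealSheafData.vanishingIdeal_ideal]
  refine (PrimeSpectrum.mem_vanishingIdeal _ _).2 fun p hp => ?_
  by_contra hb
  refine hp (mem_loc_of_basicOpen κ b ?_)
  show p ∈ hV.fromSpec ⁻¹ᵁ X.basicOpen (show Γ(X, V) from κ.app V b)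
  rw [hV.fromSpec_preimage_basicOpen]
  exact hb

theorem exists_idealSect_loc {E : X.Modules} (κ : E ⟶ Coh.structureModule X) (W : X.Opens) (b : Γ(E, W)) :
    ∃ m, OmegaSh.idealSect (locIdeal κ) W m = κ.app W b := by
  have h : κ ≫ ClSub.toSubscheme (locIdeal κ) = 0 := by
    refine LeadAff.hom_ext_affine _ _ fun V hV s => ?_
    obtain ⟨m, hm⟩ := (H29Blow.mem_ideal_iff_exists_idealSect (locIdeal κ) hV _).1 (mem_locIdeal κ hV s)
    show (ClSub.toSubscheme (locIdeal κ)).app V (κ.app V s) = 0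
    rw [show (κ.app V s : Γ(Coh.structureModule X, V)) = (ClSub.idealModι (locIdeal κ)).app V m from hm.symm]
    show (ClSub.idealModι (locIdeal κ) ≫ ClSub.toSubscheme (locIdeal κ)).app V m = 0
    rw [show ClSub.idealModι (locIdeal κ) ≫ ClSub.toSubscheme (locIdeal κ) = 0 from kernel.condition _]
    rfl
  refine ⟨(kernel.lift _ κ h).app W b, ?_⟩
  exact congr($(congrArg (fun k => Scheme.Modules.Hom.app k W) (kernel.lift_ι _ κ h)) b)

theorem hasResolutionProperty_noetherian [IsNoetherian X] (hX : HasData X) :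
    PerfAux.HasResolutionProperty X := by
  classical
  obtain ⟨r, E, κ, hE, haff, hcov⟩ := hX
  intro M hM hMft
  let W : Fin r → X.Opens := fun j => (loc (κ j)).ι ''ᵁ ⊤
  have hW : ∀ j, W j = loc (κ j) := fun j => (loc (κ j)).ι_image_top
  have hWaff : ∀ j, IsAffineOpen (W j) := fun j => (hW j).symm ▸ haff j
  choose e he using fun j => exists_one (κ j) (H8Props.FinLocFree.isQCoh_of_isFinLocFree _ (hE j)) (hWaff j) (hW j).le
  haveI : M.IsQuasicoherent := hM
  choose S hS using fun j => (H10Coh.finite_sections M hMft (hWaff j)).fg_top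
  let J := Σ j : Fin r, S j
  have hθ : ∀ q : J, ∃ n₀ : ℕ, ∀ n, n₀ ≤ n → ∃ θ : CohB1.tensorPow (E q.1) n ⟶ M,
      θ.app (W q.1) (spow (e q.1) n) = q.2.1 := fun q =>
    H14ResProp.PowGen.exists_hom (locIdeal (κ q.1)) (κ q.1) (exists_idealSect_loc (κ q.1)) (loc (κ q.1))
      (by simp [locIdeal, Scheme.IdealSheafData.coe_support_vanishingIdeal]) M hM (e q.1) (he q.1) q.2.1
  choose n θ hθ using hθ
  let ι := Fintype.equivFin J
  let G : Fin (Fintype.card J) → X.Modules := fun i => CohB1.tensorPow (E (ι.symm i).1) (n (ι.symm i))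
  let ψ : (∐ G) ⟶ M := Sigma.desc fun i => θ (ι.symm i) (n (ι.symm i)) le_rfl
  refine ⟨∐ G, ψ, KFlat.Stalk.isFinLocFree_sigma G (fun i => finLocFree_tensorPow (hE _) _),
    H10Coh.epi_of_surjective_on_cover ψ hM W hWaff (fun x => ?_) fun j => ⟨(S j : Set _), hS j, fun σ hσ => ?_⟩⟩
  · obtain ⟨j, hj⟩ := hcov x
    exact ⟨j, (hW j).symm ▸ hj⟩
  · have key : ∀ q : J, ∃ a, ψ.app (W q.1) a = q.2.1 := fun q => by
      obtain ⟨i, rfl⟩ := ι.symm.surjective q
      exact ⟨(Sigma.ι G i).app (W (ι.symm i).1) (spow (e (ι.symm i).1) (n (ι.symm i))),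
        (congr($(congrArg (fun k => Scheme.Modules.Hom.app k (W (ι.symm i).1))
          (Sigma.ι_desc (f := fun _ => G _) (fun i => θ (ι.symm i) (n (ι.symm i)) le_rfl) i)) _)).trans
          (hθ (ι.symm i) _ le_rfl)⟩
    exact key ⟨j, σ, hσ⟩

end Groth.Agent.H16Derived.ResData
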